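import Groth.Agent.Lib.Snapper.Polynomial
import Groth.Agent.Lib.Snapper.TopDecomp
import Groth.Agent.Lib.Snapper.PushEuler
import Groth.Agent.Lib.CurveMult.EtaleEuler
import Groth.Agent.Lib.AffBC.Basic
import Groth.Agent.Lib.OX.PullbackFlat
import Groth.Agent.Lib.ModDesc.Approx
import Groth.Agent.Lib.FormalExist7.PushTwist
import Groth.Agent.Lib.OX.Support

/-!
# Euler characteristics of pullbacks along finite flat morphisms

`euler_pullback_of_pullPush_free`: for a finite flat surjective `f : X ⟶ Y` with `f^* f_* O_X ≅ O_X^d`,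
`χ(f^* F) = d · χ(F)` for every coherent `F`.
-/

set_option linter.style.haveILetI false
set_option backward.isDefEq.respectTransparency false
set_option maxHeartbeats 800000

universe u

open CategoryTheory CategoryTheory.Limits AlgebraicGeometry TopologicalSpace Opposite
open Scheme.Modules (pushforward)

noncomputable section

namespace GrothLib.EulerPull

open GrothLib.Snapper

variable (k : Type u) [Field k]

/-- The pullback functor along a flat morphism keeps short exact sequences. -/
theorem shortExact_pullback {W X : Scheme.{u}} (π : W ⟶ X) [Flat π] {S : ShortComplex X.Modules}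
    (hS : S.ShortExact) [(Scheme.Modules.pullback π).PreservesZeroMorphisms] : (S.map (Scheme.Modules.pullback π)).ShortExact := by
  haveI := OX.preservesFiniteLimits_pullback_of_flat π
  haveI : (Scheme.Modules.pullback π).IsLeftAdjoint := (Scheme.Modules.pullbackPushforwardAdjunction π).isLeftAdjoint
  haveI := hS.mono_f
  haveI := hS.epi_g
  exact ShortComplex.ShortExact.mk' (OX.exact_pullback_of_flat π hS.exact)
    (inferInstanceAs (Mono ((Scheme.Modules.pullback π).map S.f))) (inferInstanceAs (Epi ((Scheme.Modules.pullback π).map S.g)))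

/-- The additive defect of a finite flat morphism. -/
def defect {W X : Scheme.{u}} [W.Over (Spec (CommRingCat.of k))] [X.Over (Spec (CommRingCat.of k))]
    (π : W ⟶ X) (d : ℕ) (G : X.Modules) : ℤ :=
  Curv2.euler k W ((Scheme.Modules.pullback π).obj G) - d * Curv2.euler k X G

variable {W X : Scheme.{u}} [W.Over (Spec (CommRingCat.of k))] [X.Over (Spec (CommRingCat.of k))]
  [IsProper (X ↘ Spec (CommRingCat.of k))] (π : W ⟶ X) [IsFinite π] [Flat π]

theorem isProper_source (hπ : π ≫ X ↘ Spec (CommRingCat.of k) = W ↘ Spec (CommRingCat.of k)) :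
    IsProper (W ↘ Spec (CommRingCat.of k)) := hπ ▸ inferInstance

theorem defect_iso (d : ℕ) {M N : X.Modules} (e : M ≅ N) : defect k π d M = defect k π d N := by
  rw [defect, defect, Euler.euler_of_iso k e, Euler.euler_of_iso k ((Scheme.Modules.pullback π).mapIso e)]

theorem defect_add (hπ : π ≫ X ↘ Spec (CommRingCat.of k) = W ↘ Spec (CommRingCat.of k)) (d : ℕ)
    {T : ShortComplex X.Modules} (hT : T.ShortExact) (a : Coh.IsCoh T.X₁) (b : Coh.IsCoh T.X₂)
    (c : Coh.IsCoh T.X₃) : defect k π d T.X₂ = defect k π d T.X₁ + defect k π d T.X₃ := by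
  haveI := isProper_source k π hπ
  haveI := OX.additive_pullback π
  have h1 := Euler.euler_additive k hT a b c
  have h2 := Euler.euler_additive k (shortExact_pullback π hT) (ModDesc.isCoh_pullback π _ a)
    (ModDesc.isCoh_pullback π _ b) (ModDesc.isCoh_pullback π _ c)
  simp only [ShortComplex.map_X₁, ShortComplex.map_X₂, ShortComplex.map_X₃] at h2
  simp only [defect, h1, h2]
  ring

omit [IsProper (X ↘ Spec (CommRingCat.of k))] [IsFinite π] [Flat π] in
theorem defect_isZero [IsProper (W ↘ Spec (CommRingCat.of k))] [IsProper (X ↘ Spec (CommRingCat.of k))]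
    (d : ℕ) {M : X.Modules} (hM : IsZero M) : defect k π d M = 0 := by
  haveI := OX.additive_pullback π
  rw [defect, euler_eq_zero_of_isZero k hM, euler_eq_zero_of_isZero k ((Scheme.Modules.pullback π).map_isZero hM)]
  ring

/-- Euler characteristics along a finite flat morphism with free direct image. -/
theorem defect_eq_zero_of_push_free (hπ : π ≫ X ↘ Spec (CommRingCat.of k) = W ↘ Spec (CommRingCat.of k))
    {d : ℕ} (ψ : (pushforward π).obj (Coh.structureModule W) ≅ FlatMod.freeMod X d)
    (G : X.Modules) (hG : Coh.IsCoh G) : defect k π d G = 0 := by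
  haveI := isProper_source k π hπ
  haveI := Euler.isNoetherian_of_proper (X := X) k
  haveI := Euler.isNoetherian_of_proper (X := W) k
  refine QCoh.devissage (fun M => defect k π d M = 0) (fun M N ⟨e⟩ h => (defect_iso k π d e).symm.trans h)
    (fun M hM => defect_isZero k π d hM) (fun T hT a b c => ?_) Set.univ (fun Z i _ _ _ => ?_) G hG (Set.subset_univ _)
  · have := defect_add k π hπ d hT a b c
    exact ⟨fun _ _ => by omega, fun _ _ => by omega, fun _ _ => by omega⟩
  · let η := i (genericPoint Z)
    let I := Scheme.IdealSheafData.vanishingIdeal (⟨closure {η}, isClosed_closure⟩ : Closeds X)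
    let j : I.subscheme ⟶ X := I.subschemeι
    refine ⟨ptMod η, isCoh_ptMod η, (support_ptMod η).trans (QCoh.closure_singleton_eq_range i).le,
      nonempty_ptMod_stalk_equiv η, ?_⟩
    letI : I.subscheme.Over (Spec (CommRingCat.of k)) := ⟨j ≫ X ↘ Spec (CommRingCat.of k)⟩
    haveI : IsProper (I.subscheme ↘ Spec (CommRingCat.of k)) :=
      inferInstanceAs (IsProper (j ≫ X ↘ Spec (CommRingCat.of k)))
    let P := Limits.pullback π j
    let π' : P ⟶ I.subscheme := Limits.pullback.snd π j
    let j' : P ⟶ W := Limits.pullback.fst π j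
    letI : P.Over (Spec (CommRingCat.of k)) := ⟨π' ≫ I.subscheme ↘ Spec (CommRingCat.of k)⟩
    haveI : IsProper (P ↘ Spec (CommRingCat.of k)) :=
      inferInstanceAs (IsProper (π' ≫ I.subscheme ↘ Spec (CommRingCat.of k)))
    haveI : (Coh.structureModule W).IsQuasicoherent := Cohom.isQuasicoherent_structureModule W
    haveI : (Coh.structureModule I.subscheme).IsQuasicoherent := Cohom.isQuasicoherent_structureModule _
    haveI : (Coh.structureModule P).IsQuasicoherent := Cohom.isQuasicoherent_structureModule P
    have hsq : IsPullback j' π' π j := IsPullback.of_hasPullback π j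
    haveI := AffBC.isIso_bcMap hsq (Coh.structureModule W)
    haveI := AffBC.isIso_bcMap hsq.flip (Coh.structureModule I.subscheme)
    let e1 : (pushforward π').obj (Coh.structureModule P) ≅ FlatMod.freeMod I.subscheme d :=
      (pushforward π').mapIso (OX.pullUnitIso j').symm ≪≫ (asIso (AffBC.bcMap hsq (Coh.structureModule W))).symm ≪≫
        (Scheme.Modules.pullback j).mapIso ψ ≪≫ OX.pullFreeModIso j d
    let e2 : (Scheme.Modules.pullback π).obj (ptMod η) ≅ (pushforward j').obj (Coh.structureModule P) :=
      asIso (AffBC.bcMap hsq.flip (Coh.structureModule I.subscheme)) ≪≫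
        (pushforward j').mapIso (OX.pullUnitIso π')
    have hj' : j' ≫ W ↘ Spec (CommRingCat.of k) = P ↘ Spec (CommRingCat.of k) := by
      show j' ≫ W ↘ Spec (CommRingCat.of k) = π' ≫ j ≫ X ↘ Spec (CommRingCat.of k)
      rw [← hπ, ← Category.assoc, ← Category.assoc, hsq.w]
    show Curv2.euler k W ((Scheme.Modules.pullback π).obj (ptMod η)) - d * Curv2.euler k X (ptMod η) = 0
    rw [Euler.euler_of_iso k e2, euler_pushforward j' hj' _, ← euler_pushforward π' rfl _,
      Euler.euler_of_iso k e1, CurveMult.euler_freeMod_structure k,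
      show Curv2.euler k X (ptMod η) = Curv2.euler k I.subscheme (Coh.structureModule I.subscheme) from
        euler_pushforward j rfl _]
    ring

/-- **Euler characteristics along a finite flat surjection trivialised by itself.** -/
theorem euler_pullback_of_pullPush_free [Surjective π]
    (hπ : π ≫ X ↘ Spec (CommRingCat.of k) = W ↘ Spec (CommRingCat.of k)) {d : ℕ}
    (ψ : (Scheme.Modules.pullback π).obj ((pushforward π).obj (Coh.structureModule W)) ≅ FlatMod.freeMod W d)
    {m : ℕ} (hm : DimLT (Set.univ : Set X) m) (G : X.Modules) (hG : Coh.IsCoh G) :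
    Curv2.euler k W ((Scheme.Modules.pullback π).obj G) = d * Curv2.euler k X G := by
  haveI := isProper_source k π hπ
  haveI := Euler.isNoetherian_of_proper (X := X) k
  haveI := Euler.isNoetherian_of_proper (X := W) k
  -- the self base change
  let P := Limits.pullback π π
  let p₁ : P ⟶ W := Limits.pullback.fst π π
  let p₂ : P ⟶ W := Limits.pullback.snd π π
  letI : P.Over (Spec (CommRingCat.of k)) := ⟨p₂ ≫ W ↘ Spec (CommRingCat.of k)⟩
  haveI : IsProper (P ↘ Spec (CommRingCat.of k)) := inferInstanceAs (IsProper (p₂ ≫ W ↘ Spec (CommRingCat.of k)))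
  haveI : (Coh.structureModule W).IsQuasicoherent := Cohom.isQuasicoherent_structureModule W
  haveI := AffBC.isIso_bcMap (IsPullback.of_hasPullback π π) (Coh.structureModule W)
  let ψ' : (pushforward p₂).obj (Coh.structureModule P) ≅ FlatMod.freeMod W d :=
    (pushforward p₂).mapIso (OX.pullUnitIso p₁).symm ≪≫
      (asIso (AffBC.bcMap (IsPullback.of_hasPullback π π) (Coh.structureModule W))).symm ≪≫ ψ
  suffices h : ∀ (m : ℕ) (F : X.Modules), Coh.IsCoh F → DimLT (CohB1.support F) m → defect k π d F = 0 by
    have := h m G hG (hm.mono (Set.subset_univ _))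
    rw [defect] at this
    omega
  clear hm m
  intro m
  induction m with
  | zero =>
    intro F hF hd
    refine defect_isZero k π d (OX.isZero_of_subsingleton_stalks _ fun x => ?_)
    exact QCoh.stalk_subsingleton_of_notMem (by rw [eq_empty_of_dimLT_zero hd]; exact id)
  | succ m ih =>
    have dec : ∀ (F : X.Modules) (S : Set X), IsClosed S → DimLT S (m + 1) → Coh.IsCoh F → CohB1.support F ⊆ S →
        (∀ x, IsTop m x → Module.length (X.presheaf.stalk x) (F.presheaf.stalk x) ≠ ⊤) ∧
          defect k π d F = ∑ᶠ x : X, topTerm (defect k π d) m F x := fun F S hS hSd hF hFS =>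
      top_decomposition (defect k π d) (fun A B ⟨e⟩ => defect_iso k π d e) hS hSd
        (fun T hT a b c _ => defect_add k π hπ d hT a b c) (fun M hM _ hMd => ih M hM hMd) F hF hFS
    have hpt : ∀ y : X, IsTop m y → defect k π d (ptMod y) = 0 := by
      intro y hy
      let I := Scheme.IdealSheafData.vanishingIdeal (⟨closure {y}, isClosed_closure⟩ : Closeds X)
      let j : I.subscheme ⟶ X := I.subschemeι
      let V := Limits.pullback π j
      let π' : V ⟶ I.subscheme := Limits.pullback.snd π j
      let j' : V ⟶ W := Limits.pullback.fst π j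
      haveI : (Coh.structureModule I.subscheme).IsQuasicoherent := Cohom.isQuasicoherent_structureModule _
      have hsq : IsPullback j' π' π j := IsPullback.of_hasPullback π j
      haveI := AffBC.isIso_bcMap hsq.flip (Coh.structureModule I.subscheme)
      let F := (Scheme.Modules.pullback π).obj (ptMod y)
      let T := (pushforward π).obj F
      have hFc : Coh.IsCoh F := ModDesc.isCoh_pullback π _ (isCoh_ptMod y)
      haveI := hFc.1
      have hTc : Coh.IsCoh T := FormalExist7.isCoh_pushforward π hFc
      let eF : F ≅ (pushforward j').obj (Coh.structureModule V) :=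
        asIso (AffBC.bcMap hsq.flip (Coh.structureModule I.subscheme)) ≪≫ (pushforward j').mapIso (OX.pullUnitIso π')
      let eT : T ≅ (pushforward (j' ≫ π)).obj (Coh.structureModule V) :=
        (pushforward π).mapIso eF ≪≫ (Scheme.Modules.pushforwardComp j' π).app _
      have hrange : ∀ v : V, (j' ≫ π) v ∈ closure ({y} : Set X) := fun v => by
        rw [← range_pt y, hsq.w, Scheme.Hom.comp_apply]
        exact ⟨π' v, rfl⟩
      have hTy : CohB1.support T ⊆ closure {y} := by
        rw [QCoh.support_eq_of_iso eT]
        intro x hx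
        by_contra hxc
        refine absurd hx (QCoh.notMem_support_of_forall_subsingleton _ (W := ⟨(closure {y})ᶜ,
          isClosed_closure.isOpen_compl⟩) (fun U hU => ?_) hxc)
        have : (j' ≫ π) ⁻¹ᵁ U = ⊥ := le_antisymm (fun v hv => ((hU hv) (hrange v)).elim) bot_le
        show Subsingleton Γ(Coh.structureModule V, (j' ≫ π) ⁻¹ᵁ U)
        rw [this]
        exact Cohom.subsingleton_sections_bot (Coh.toAb _)
      have hyT : y ∈ CohB1.support T := by
        obtain ⟨z, hz⟩ : y ∈ Set.range j := by rw [range_pt y]; exact subset_closure rfl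
        obtain ⟨w, hw⟩ := π.surjective y
        obtain ⟨v, hv, -⟩ := Scheme.Pullback.exists_preimage_pullback (f := π) (g := j) w z (hw.trans hz.symm)
        have hv' : (j' ≫ π) v = y := by
          rw [Scheme.Hom.comp_apply, show j' v = w from hv, hw]
        rw [QCoh.support_eq_of_iso eT]
        intro hsub
        haveI : Subsingleton (((pushforward (j' ≫ π)).obj (Coh.structureModule V)).presheaf.stalk y) :=
          (subsingleton_iff.2 fun a b => @Subsingleton.elim _ hsub a b)
        obtain ⟨U, hyU, iU, iU', he⟩ := ((pushforward (j' ≫ π)).obj (Coh.structureModule V)).presheaf.germ_eq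
          (U := ⊤) (V := ⊤) y trivial trivial (1 : Γ(V, (j' ≫ π) ⁻¹ᵁ ⊤)) (0 : Γ(V, (j' ≫ π) ⁻¹ᵁ ⊤))
          (Subsingleton.elim _ _)
        have he' : (1 : Γ(V, (j' ≫ π) ⁻¹ᵁ U)) = 0 := by
          refine Eq.trans ?_ (he.trans (map_zero _))
          exact (map_one (V.presheaf.map (homOfLE ((j' ≫ π).preimage_mono (leOfHom iU))).op).hom).symm
        haveI : Nonempty ((j' ≫ π) ⁻¹ᵁ U : V.Opens) := ⟨⟨v, show (j' ≫ π) v ∈ U from hv' ▸ hyU⟩⟩
        exact one_ne_zero he'
      -- the defect vanishes on `T`
      have hT0 : defect k π d T = 0 := by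
        haveI := AffBC.isIso_bcMap (IsPullback.of_hasPullback π π) F
        haveI := FittSheaf.isQuasicoherent_pullback p₁ F
        let e : (Scheme.Modules.pullback p₁).obj F ≅ (Scheme.Modules.pullback p₂).obj F :=
          (Scheme.Modules.pullbackComp p₁ π).app (ptMod y) ≪≫
            (Scheme.Modules.pullbackCongr Limits.pullback.condition).app (ptMod y) ≪≫
            ((Scheme.Modules.pullbackComp p₂ π).app (ptMod y)).symm
        have e3 : Curv2.euler k W ((Scheme.Modules.pullback π).obj T) =
            Curv2.euler k P ((Scheme.Modules.pullback p₂).obj F) :=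
          ((Euler.euler_of_iso k (asIso (AffBC.bcMap (IsPullback.of_hasPullback π π) F))).trans
            (euler_pushforward p₂ rfl ((Scheme.Modules.pullback p₁).obj F))).trans (Euler.euler_of_iso k e)
        rw [defect, show Curv2.euler k X T = Curv2.euler k W F from euler_pushforward π hπ F, e3]
        exact defect_eq_zero_of_push_free k p₂ rfl ψ' F hFc
      obtain ⟨hfin, hsum⟩ := dec T _ isClosed_closure hy.dimLT hTc hTy
      rw [finsum_eq_single _ y fun x hne => topTerm_eq_zero _ fun hx hxs =>
        hne (hx.eq_of_specializes (specializes_iff_mem_closure.2 (hTy hxs)) hy.dimLT).symm, topTerm_of _ hy,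
        hT0] at hsum
      have hm0 : mult T y ≠ 0 := by
        intro h0
        rcases ENat.toNat_eq_zero.1 h0 with h0 | h0
        · exact hyT (Module.length_eq_zero_iff.1 h0)
        · exact hfin y hy h0
      exact (smul_eq_zero.1 hsum.symm).resolve_left hm0
    intro F hF hd
    obtain ⟨-, hsum⟩ := dec F _ (QCoh.isClosed_support_of_isCoh hF) hd hF subset_rfl
    rw [hsum]
    refine finsum_eq_zero_of_forall_eq_zero fun x => ?_
    by_cases hx : IsTop m x
    · rw [topTerm_of _ hx, hpt x hx, smul_zero]
    · exact topTerm_eq_zero _ fun h => absurd h hx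

end GrothLib.EulerPull
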