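import Groth.Agent.Lib.EulerPull.Basic
import Groth.Agent.Lib.Rigidity.Relative.Hom
import Groth.Agent.Lib.Rigidity.Relative.RelMagma
import Groth.Agent.Lib.Cube.AbScheme
import Groth.Agent.Lib.AbTors.Tate

/-!
# Euler characteristics of pullbacks along finite flat morphisms of abelian varieties
-/

set_option linter.style.haveILetI false
set_option backward.isDefEq.respectTransparency false

universe u

open CategoryTheory CategoryTheory.Limits AlgebraicGeometry TopologicalSpace
open MonoidalCategory CartesianMonoidalCategory MonObj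
open Scheme.Modules (pushforward)

noncomputable section

namespace GrothLib.EulerPull

open GrothLib.Snapper

/-- A locally free module of rank `n` on a one-point scheme is free. -/
theorem nonempty_free_iso_of_subsingleton {Z : Scheme.{u}} [Subsingleton Z] [Nonempty Z] {n : ℕ} {M : Z.Modules}
    (hM : FlatMod.IsFinLocFreeOfRank n M) : Nonempty (M ≅ FlatMod.freeMod Z n) := by
  obtain ⟨U, hU, ⟨e⟩⟩ := hM (Classical.arbitrary Z)
  have hUtop : U = ⊤ := top_le_iff.1 fun z _ => Subsingleton.elim (Classical.arbitrary Z) z ▸ hU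
  subst hUtop
  let g : Z ⟶ ((⊤ : Z.Opens) : Scheme.{u}) := (Scheme.topIso Z).inv
  have hg : g ≫ (⊤ : Z.Opens).ι = 𝟙 Z := (Scheme.topIso Z).inv_hom_id
  exact ⟨((Scheme.Modules.pullbackId Z).app M).symm ≪≫ (Scheme.Modules.pullbackCongr hg.symm).app M ≪≫
    ((Scheme.Modules.pullbackComp g _).app M).symm ≪≫
    (Scheme.Modules.pullback g).mapIso (((Scheme.Modules.restrictFunctorIsoPullback _).app M).symm ≪≫ e) ≪≫
    OX.pullFreeModIso g n⟩

variable {k : Type u} [Field k] {X Y : Over (Spec (CommRingCat.of k))} [GrpObj X] [IsProper X.hom]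
  [GeometricallyIntegral X.hom] [GrpObj Y] [IsProper Y.hom] [GeometricallyIntegral Y.hom]

omit [IsProper Y.hom] [GeometricallyIntegral Y.hom] in
theorem surjective_of_finite_flat [IsProper X.hom] [GeometricallyIntegral X.hom] [IsProper Y.hom]
    [GeometricallyIntegral Y.hom] (f : X ⟶ Y) [IsFinite f.left] [Flat f.left] : Surjective f.left := by
  haveI : IsIntegral X.left := GeometricallyIntegral.isIntegral_of_subsingleton X.hom
  haveI : IsIntegral Y.left := GeometricallyIntegral.isIntegral_of_subsingleton Y.hom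
  haveI : IsLocallyNoetherian Y.left := LocallyOfFiniteType.isLocallyNoetherian Y.hom
  haveI : LocallyOfFinitePresentation f.left := inferInstance
  refine ⟨fun y => ?_⟩
  have ho : IsOpenMap f.left := f.left.isOpenMap
  have hr : Set.range f.left = Set.univ :=
    IsClopen.eq_univ ⟨f.left.isClosedMap.isClosed_range, ho.isOpen_range⟩ (Set.range_nonempty _)
  exact (hr.symm ▸ Set.mem_univ y : y ∈ Set.range f.left)

/-- A finite flat morphism of abelian varieties is trivialised by itself. -/
theorem nonempty_pullPush_free (f : X ⟶ Y) [IsFinite f.left] [Flat f.left] (d : ℕ)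
    (hd : ∀ y : Y.left, f.left.finrank y = d) :
    Nonempty ((Scheme.Modules.pullback f.left).obj ((pushforward f.left).obj (Coh.structureModule X.left)) ≅
      FlatMod.freeMod X.left d) := by
  haveI : GeometricallyConnected X.hom := Rigidity.geometricallyConnected_of_geometricallyIrreducible X.hom
  haveI : GeometricallyReduced X.hom := inferInstance
  haveI : LocallyOfFinitePresentation X.hom := inferInstance
  haveI : IsCommMonObj Y := by
    haveI : GeometricallyConnected Y.hom := Rigidity.geometricallyConnected_of_geometricallyIrreducible Y.hom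
    exact Cube.isCommMonObj_abScheme Y
  let S := Spec (CommRingCat.of k)
  let c : 𝟙_ (Over S) ⟶ Y := η[X] ≫ f
  let f₀ : X ⟶ Y := f * (toUnit X ≫ c)⁻¹
  haveI : IsMonHom f₀ := Rigidity.isMonHom_of_one_comp' f₀ (by
    simp only [f₀, c, MonObj.comp_mul, GrpObj.comp_inv, ← Category.assoc]
    rw [Subsingleton.elim (η[X] ≫ toUnit X) (𝟙 _), Category.id_comp, _root_.mul_inv_cancel,
      Hom.one_def, Subsingleton.elim (toUnit (𝟙_ _)) (𝟙 _), Category.id_comp])
  let τ : Y ⟶ Y := 𝟙 Y * (toUnit Y ≫ c)
  have hτ : f = f₀ ≫ τ := by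
    simp only [f₀, τ, MonObj.comp_mul, Category.comp_id, ← Category.assoc]
    rw [Subsingleton.elim ((f * (toUnit X ≫ c)⁻¹) ≫ toUnit Y) (toUnit X), inv_mul_cancel_right]
  let τ' : Y ⟶ Y := 𝟙 Y * (toUnit Y ≫ c⁻¹)
  have hττ' : ∀ a b : 𝟙_ (Over S) ⟶ Y, (𝟙 Y * (toUnit Y ≫ a)) ≫ (𝟙 Y * (toUnit Y ≫ b)) =
      𝟙 Y * (toUnit Y ≫ (a * b)) := by
    intro a b
    rw [MonObj.comp_mul, Category.comp_id, ← Category.assoc, Subsingleton.elim (_ ≫ toUnit Y) (toUnit Y),
      _root_.mul_assoc, ← MonObj.comp_mul]
  haveI hτi : IsIso τ := by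
    refine ⟨τ', ?_, ?_⟩
    · rw [hττ', _root_.mul_inv_cancel, MonObj.comp_one, _root_.mul_one]
    · rw [hττ', _root_.inv_mul_cancel, MonObj.comp_one, _root_.mul_one]
  let K : Over S := Limits.pullback f₀ (η[Y] : 𝟙_ (Over S) ⟶ Y)
  let i : K ⟶ X := Limits.pullback.fst _ _
  have hi : i ≫ f₀ = 1 := by
    rw [show i ≫ f₀ = Limits.pullback.snd f₀ η[Y] ≫ η[Y] from Limits.pullback.condition, Hom.one_def,
      Subsingleton.elim (Limits.pullback.snd f₀ η[Y]) (toUnit K)]
  let m : X ⊗ K ⟶ X := fst X K * (snd X K ≫ i)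
  have hm : m ≫ f₀ = fst X K ≫ f₀ := by
    simp only [m, MonObj.mul_comp, Category.assoc, hi, MonObj.comp_one, _root_.mul_one]
  -- the self base change of `f₀`
  have sq₀ : IsPullback m (fst X K) f₀ f₀ := by
    have hx : ∀ s : PullbackCone f₀ f₀, (s.snd⁻¹ * s.fst) ≫ f₀ = toUnit s.pt ≫ η[Y] := fun s => by
      rw [MonObj.mul_comp, GrpObj.inv_comp, s.condition, _root_.inv_mul_cancel, Hom.one_def]
    refine IsPullback.of_isLimit' ⟨hm⟩ (Limits.PullbackCone.IsLimit.mk _
      (fun s => lift s.snd (Limits.pullback.lift (s.snd⁻¹ * s.fst) (toUnit _) (hx s))) (fun s => ?_) (fun s => ?_)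
      (fun s q h₁ h₂ => ?_))
    · simp only [m, MonObj.comp_mul, lift_fst, lift_snd_assoc, i, Limits.pullback.lift_fst, mul_inv_cancel_left]
    · exact lift_fst _ _
    · apply CartesianMonoidalCategory.hom_ext
      · rw [lift_fst]; exact h₂
      · rw [lift_snd]
        refine Limits.pullback.hom_ext ?_ (Subsingleton.elim (α := _ ⟶ 𝟙_ (Over S)) _ _)
        rw [Limits.pullback.lift_fst]
        have h3 : q ≫ m = s.fst := h₁
        simp only [m, MonObj.comp_mul, ← Category.assoc] at h3
        rw [show q ≫ fst X K = s.snd from h₂] at h3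
        rw [← h3, inv_mul_cancel_left]
  have sq : IsPullback m (fst X K) f f := by
    rw [hτ]
    exact sq₀.of_iso (Iso.refl _) (Iso.refl _) (Iso.refl _) (asIso τ) (by simp) (by simp) (by simp) (by simp)
  have sqs : IsPullback m.left (fst X K).left f.left f.left := sq.map (Over.forget S)
  -- the kernel has rank `d`
  have sqK : IsPullback i (toUnit K) f c := by
    have h : IsPullback i (toUnit K) f₀ η[Y] := by
      rw [Subsingleton.elim (toUnit K) (Limits.pullback.snd f₀ η[Y])]
      exact IsPullback.of_hasPullback _ _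
    have hc : η[Y] ≫ τ = c := by
      simp only [τ, MonObj.comp_mul, Category.comp_id, ← Category.assoc]
      rw [Subsingleton.elim (η[Y] ≫ toUnit Y) (𝟙 _), Category.id_comp,
        show (η[Y] : 𝟙_ _ ⟶ Y) = 1 by
          rw [Hom.one_def, Subsingleton.elim (toUnit (𝟙_ _)) (𝟙 _), Category.id_comp], _root_.one_mul]
    rw [hτ, ← hc]
    exact h.of_iso (Iso.refl _) (Iso.refl _) (Iso.refl _) (asIso τ) (by simp) (by simp) (by simp) (by simp)
  have sqKs : IsPullback i.left K.hom f.left c.left := by
    have h := sqK.map (Over.forget S)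
    exact h
  haveI : IsFinite K.hom := MorphismProperty.of_isPullback sqKs ‹IsFinite f.left›
  haveI : Flat K.hom := MorphismProperty.of_isPullback sqKs ‹Flat f.left›
  have hK : ∀ s, K.hom.finrank s = d := fun s =>
    (Scheme.Hom.finrank_of_isPullback i.left K.hom f.left c.left sqKs s).trans (hd _)
  obtain ⟨eK⟩ := nonempty_free_iso_of_subsingleton (FEt21.isFinLocFreeOfRank_of_finrank K.hom d hK)
  -- base change
  haveI : (Coh.structureModule X.left).IsQuasicoherent := Cohom.isQuasicoherent_structureModule _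
  haveI : (Coh.structureModule K.left).IsQuasicoherent := Cohom.isQuasicoherent_structureModule _
  have hprod : IsPullback (snd X K).left (fst X K).left K.hom X.hom :=
    (IsPullback.of_hasPullback X.hom K.hom).flip
  haveI := AffBC.isIso_bcMap hprod (Coh.structureModule K.left)
  haveI := AffBC.isIso_bcMap sqs (Coh.structureModule X.left)
  exact ⟨asIso (AffBC.bcMap sqs (Coh.structureModule X.left)) ≪≫
    (pushforward (fst X K).left).mapIso (OX.pullUnitIso m.left ≪≫ (OX.pullUnitIso (snd X K).left).symm) ≪≫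
    (asIso (AffBC.bcMap hprod (Coh.structureModule K.left))).symm ≪≫
    (Scheme.Modules.pullback X.hom).mapIso eK ≪≫ OX.pullFreeModIso X.hom d⟩

/-- `χ(f^* F) = deg f · χ(F)`. -/
theorem euler_pullback (f : X ⟶ Y) [IsFinite f.left] [Flat f.left] (d : ℕ)
    (hd : ∀ y : Y.left, f.left.finrank y = d) (F : Y.left.Modules) (hF : Coh.IsCoh F) :
    @Curv2.euler k _ X.left ⟨X.hom⟩ ((Scheme.Modules.pullback f.left).obj F) =
      (d : ℤ) * @Curv2.euler k _ Y.left ⟨Y.hom⟩ F := by
  letI : X.left.Over (Spec (CommRingCat.of k)) := ⟨X.hom⟩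
  letI : Y.left.Over (Spec (CommRingCat.of k)) := ⟨Y.hom⟩
  haveI : IsProper (Y.left ↘ Spec (CommRingCat.of k)) := ‹IsProper Y.hom›
  haveI := surjective_of_finite_flat f
  haveI : GeometricallyConnected Y.hom := Rigidity.geometricallyConnected_of_geometricallyIrreducible Y.hom
  haveI : GeometricallyReduced Y.hom := inferInstance
  haveI : LocallyOfFinitePresentation Y.hom := inferInstance
  haveI : IsCommMonObj Y := Cube.isCommMonObj_abScheme Y
  obtain ⟨g, hg⟩ := AbTors.exists_dim Y
  obtain ⟨ψ⟩ := nonempty_pullPush_free f d hd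
  refine euler_pullback_of_pullPush_free k f.left (Over.w f) ψ (m := g + 1) (dimLT_of_dim_le ?_) F hF
  exact ((IsHomeomorph.topologicalKrullDim_eq _ (Homeomorph.Set.univ Y.left).isHomeomorph).trans hg).le

end GrothLib.EulerPull
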