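import Groth.Agent.Lib.EulerPull.PullGrowth
import Groth.Agent.Lib.EulerPull.Abelian
import Groth.Agent.Lib.AbTors.Degree
import Groth.Agent.Lib.Poincare.Closed
import Groth.Agent.Lib.CurveMult.GenEtale
import Groth.Agent.S11999

/-!
# `χ(L) = 0` for degenerate `L`
-/

set_option linter.style.haveILetI false
set_option backward.isDefEq.respectTransparency false
set_option maxHeartbeats 800000

universe u

open CategoryTheory CategoryTheory.Limits AlgebraicGeometry TopologicalSpace
open MonoidalCategory CartesianMonoidalCategory MonObj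
open scoped CategoryTheory.Obj

noncomputable section

namespace GrothLib.EulerPull

open GrothLib.Cube GrothLib.Poincare
open GrothLib.Snapper (DimLT IsTop dimLT_of_dim_le isTop_of not_dimLT_zero)

variable {K : Type u} [Field K] [IsAlgClosed K] (A : Over (Spec (CommRingCat.of K))) [GrpObj A] [IsProper A.hom]
  [GeometricallyIntegral A.hom]

theorem isPullback_fst_whiskerRight {S : Scheme.{u}} {P Q : Over S} (w : P ⟶ Q) (R : Over S) :
    IsPullback (fst P R) (w ▷ R) w (fst Q R) := by
  refine IsPullback.of_isLimit' ⟨(whiskerRight_fst w R).symm⟩ (Limits.PullbackCone.IsLimit.mk _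
    (fun s => lift s.fst (s.snd ≫ snd Q R)) (fun s => lift_fst _ _) (fun s => ?_) (fun s m h₁ h₂ => ?_))
  · apply CartesianMonoidalCategory.hom_ext
    · rw [Category.assoc, whiskerRight_fst, lift_fst_assoc]; exact s.condition
    · rw [Category.assoc, whiskerRight_snd, lift_snd]
  · apply CartesianMonoidalCategory.hom_ext
    · rw [lift_fst]; exact h₁
    · rw [lift_snd, ← whiskerRight_snd w R, ← Category.assoc]; exact congrArg (· ≫ snd Q R) h₂

/-- An infinite stabiliser contains a positive-dimensional abelian subvariety. -/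
theorem exists_subvariety_stab [IsCommMonObj A] (x : Pic A.left) (hinf : ((orth (𝟙 A) x : Subgroup _) : Set (𝟙_ (Over (Spec (CommRingCat.of K))) ⟶ A)).Infinite) :
    ∃ (B : Over (Spec (CommRingCat.of K))) (_ : GrpObj B) (i : B ⟶ A) (b : ℕ), IsMonHom i ∧
      IsClosedImmersion i.left ∧ IsProper B.hom ∧ GeometricallyIntegral B.hom ∧
      topologicalKrullDim B.left = (b : WithBot ℕ∞) ∧ 0 < b ∧ ∀ p, p ≫ i ∈ orth (𝟙 A) x := by
  classical
  haveI : IsIntegral A.left := GeometricallyIntegral.isIntegral_of_subsingleton A.hom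
  haveI : IsLocallyNoetherian A.left := LocallyOfFiniteType.isLocallyNoetherian A.hom
  haveI : CompactSpace A.left := QuasiCompact.compactSpace_of_compactSpace A.hom
  haveI : IsNoetherian A.left := {}
  set H := orth (𝟙 A) x
  let Z : Closeds A.left := ⟨closure (ptOf '' (H : Set (𝟙_ (Over (Spec (CommRingCat.of K))) ⟶ A))), isClosed_closure⟩
  have hZ : ∀ a : 𝟙_ (Over (Spec (CommRingCat.of K))) ⟶ A, ptOf a ∈ (Z : Set A.left) → a ∈ H :=
    fun a => mem_orth_of_mem_closure (𝟙 A) x a
  obtain ⟨S, hSirr, hS⟩ := NoetherianSpace.exists_finset_irreducible Z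
  obtain ⟨V, hVS, hVinf⟩ : ∃ V ∈ S, {a | ptOf a ∈ (V : Set A.left)}.Infinite := by
    by_contra h
    push Not at h
    refine hinf ((S.finite_toSet.biUnion fun V hV => h V hV).subset fun a ha => ?_)
    have hm : ptOf a ∈ (Z : Set A.left) := subset_closure ⟨a, ha, rfl⟩
    rw [hS] at hm
    obtain ⟨V, hV, hq⟩ := Closeds.mem_finset_sup hm
    exact Set.mem_biUnion hV hq
  have hVH : ∀ a, ptOf a ∈ (V : Set A.left) → a ∈ H := fun a ha => hZ a (by
    rw [hS]; exact Finset.le_sup (f := id) hVS ha)
  obtain ⟨C, _, j, v, c, hj, hjc, hCp, hCi, hc, hCH, hcov⟩ :=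
    exists_subvariety_component H V (hSirr ⟨V, hVS⟩) hVH
  refine ⟨C, inferInstance, j, c, hj, hjc, hCp, hCi, hc, Nat.pos_of_ne_zero fun h0 => ?_, hCH⟩
  subst h0
  haveI := hCi
  haveI : IsIntegral C.left := GeometricallyIntegral.isIntegral_of_subsingleton C.hom
  have hd : DimLT (Set.univ : Set C.left) 1 := dimLT_of_dim_le
    ((IsHomeomorph.topologicalKrullDim_eq _ (Homeomorph.Set.univ C.left).isHomeomorph).trans hc).le
  have hall : ∀ q : C.left, genericPoint C.left = q := fun q =>
    (isTop_of (hd.mono (Set.subset_univ _)) (not_dimLT_zero ⟨q, subset_closure rfl⟩) : IsTop 0 q).eq_of_specializes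
      ((genericPoint_spec C.left).specializes trivial) (hd.mono (Set.subset_univ _))
  have hsub : ∀ p q : 𝟙_ (Over (Spec (CommRingCat.of K))) ⟶ C, p = q := fun p q =>
    eq_of_ptOf_eq ((hall _).symm.trans (hall _))
  haveI : Subsingleton {a : 𝟙_ (Over (Spec (CommRingCat.of K))) ⟶ A | ptOf a ∈ (V : Set A.left)} := by
    refine ⟨fun a a' => Subtype.ext ?_⟩
    obtain ⟨p, hp⟩ := hcov a.1 a.2
    obtain ⟨p', hp'⟩ := hcov a'.1 a'.2
    rw [hsub p p'] at hp
    exact mul_right_cancel (hp.symm.trans hp')
  exact hVinf (Set.toFinite _)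

/-- **`χ(L) = 0` when `L` is fixed by infinitely many translations.** -/
theorem euler_eq_zero_of_infinite_stab {L : A.left.Modules} (hL : PicF.IsInvertible L)
    (hinf : {a : 𝟙_ (Over (Spec (CommRingCat.of K))) ⟶ A | pull (transl a).left (clsMod hL) = clsMod hL}.Infinite) :
    @Curv2.euler K _ A.left ⟨A.hom⟩ L = 0 := by
  haveI := isCommMonObj_abVar (A := A)
  set x := clsMod hL
  have hmem : ∀ a : 𝟙_ (Over (Spec (CommRingCat.of K))) ⟶ A, a ∈ orth (𝟙 A) x ↔ pull (transl a).left x = x := by
    intro a
    rw [mem_orth, pull_over_id, transl]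
  obtain ⟨B, _, i, b, hi, hic, hBp, hBg, hb, hbpos, hBH⟩ :=
    exists_subvariety_stab A x (by convert hinf using 1; ext a; exact hmem a)
  obtain ⟨C, _, j, hCp, hCg, hj, hjc, hsurj, hfin⟩ := Groth.Agent.S11999.result K A B i
  haveI := hsurj
  haveI := hfin
  haveI := isCommMonObj_abVar (A := B)
  haveI := isCommMonObj_abVar (A := C)
  haveI : IsIntegral B.left := GeometricallyIntegral.isIntegral_of_subsingleton B.hom
  haveI : IsIntegral C.left := GeometricallyIntegral.isIntegral_of_subsingleton C.hom
  haveI : IsIntegral A.left := GeometricallyIntegral.isIntegral_of_subsingleton A.hom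
  haveI : IsReduced (Limits.pullback B.hom C.hom) := GrpSchField.isReduced_pullback B.hom C.hom
  haveI : IrreducibleSpace ↥(Limits.pullback B.hom C.hom) := GrpSchField.irreducibleSpace_pullback B.hom C.hom
  haveI : IsIntegral (B ⊗ C).left := isIntegral_of_irreducibleSpace_of_isReduced (Limits.pullback B.hom C.hom)
  haveI : IsProper (B ⊗ C).hom := inferInstanceAs (IsProper (Limits.pullback.fst B.hom C.hom ≫ B.hom))
  haveI := geometricallyIntegral_of_isIntegral (B ⊗ C).hom
  letI : A.left.Over (Spec (CommRingCat.of K)) := ⟨A.hom⟩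
  letI : B.left.Over (Spec (CommRingCat.of K)) := ⟨B.hom⟩
  letI : (B ⊗ C).left.Over (Spec (CommRingCat.of K)) := ⟨(B ⊗ C).hom⟩
  haveI : IsProper (B.left ↘ Spec (CommRingCat.of K)) := ‹IsProper B.hom›
  haveI : IsProper ((B ⊗ C).left ↘ Spec (CommRingCat.of K)) := ‹IsProper (B ⊗ C).hom›
  haveI : IsProper (A.left ↘ Spec (CommRingCat.of K)) := ‹IsProper A.hom›
  haveI : IsLocallyNoetherian A.left := LocallyOfFiniteType.isLocallyNoetherian A.hom
  haveI : IsLocallyNoetherian (B ⊗ C).left := LocallyOfFiniteType.isLocallyNoetherian (B ⊗ C).hom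
  let f : B ⊗ C ⟶ A := (fst B C ≫ i) * (snd B C ≫ j)
  haveI : IsFinite f.left := hfin
  haveI : Surjective f.left := hsurj
  haveI : IsMonHom f := DiagGrp.isMonHom_mul_central i j fun X g h => _root_.mul_comm _ _
  haveI : Flat f.left := Rigidity.flat_of_isFinite (B ⊗ C) A f
  have hxB : ∀ a : 𝟙_ (Over (Spec (CommRingCat.of K))) ⟶ B, pull (transl a).left (pull i.left x) = pull i.left x := by
    intro a
    have h := congrArg (pull i.left) ((hmem _).1 (hBH a))
    rw [pull_pull_over] at h
    rw [pull_pull_over, show transl a ≫ i = i ≫ transl (a ≫ i) by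
      rw [transl, transl, MonObj.mul_comp, MonObj.comp_mul, Category.id_comp, Category.comp_id, Category.assoc,
        ← Category.assoc i, Subsingleton.elim (i ≫ toUnit A) (toUnit B)]]
    exact h
  set xB : Pic B.left := pull i.left x
  set xC : Pic C.left := pull j.left x
  -- the pullback splits
  have hsplit : pull f.left x = pull (fst B C).left xB * pull (snd B C).left xC := by
    have huniv : addClass (snd C B ≫ i) (fst C B ≫ j) x = 1 := by
      refine eq_one_of_dense_slices (normal_abVar B) η[C] _ (dense_closedPoints B) subset_rfl (fun a _ => ?_) ?_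
      · rw [pull_addClass, lift_fst_assoc, lift_snd_assoc, Category.id_comp, Category.assoc, addClass,
          pull_toUnit_comp, _root_.one_mul, mul_inv_eq_one, _root_.mul_comm (toUnit C ≫ a ≫ i),
          show j * (toUnit C ≫ a ≫ i) = j ≫ transl (a ≫ i) by
            rw [transl, MonObj.comp_mul, Category.comp_id, ← Category.assoc j,
              Subsingleton.elim (j ≫ toUnit A) (toUnit C)], ← pull_pull_over, (hmem _).1 (hBH a)]
      · rw [pull_addClass, lift_fst_assoc, lift_snd_assoc, Category.id_comp,
          show (toUnit B ≫ η[C]) ≫ j = (1 : B ⟶ A) by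
            rw [← Hom.one_def, MonObj.one_comp],
          addClass, _root_.mul_one, pull_one_hom, _root_.mul_one, mul_inv_cancel]
    have h := congrArg (pull (lift (snd B C) (fst B C)).left) huniv
    rw [map_one, pull_addClass, lift_fst_assoc, lift_snd_assoc, addClass, mul_inv_eq_one] at h
    rw [pull_pull_over, pull_pull_over]
    exact h
  -- multiplication along `B`
  have hmul : ∀ m : ℕ, pull ((𝟙 B : B ⟶ B) ^ m).left xB = xB ^ m := by
    intro m
    induction m with
    | zero => rw [pow_zero, pow_zero, pull_one_hom]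
    | succ m ih =>
      have h := addClass_eq_one_of_dense xB (dense_closedPoints B) subset_rfl (fun a _ => hxB a)
        ((𝟙 B : B ⟶ B) ^ m) (𝟙 B)
      rw [addClass, mul_inv_eq_one, ih, pull_over_id, ← pow_succ, ← pow_succ] at h
      exact h
  obtain ⟨M, hM⟩ : ∃ M : B.left.Modules, HasCls M xB :=
    ⟨_, (hasCls_clsMod hL).pullback i.left⟩
  let G : (B ⊗ C).left.Modules := (Scheme.Modules.pullback (snd B C).left).obj ((Scheme.Modules.pullback j.left).obj L)
  have hG : HasCls G (pull (snd B C).left xC) := ((hasCls_clsMod hL).pullback _).pullback _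
  have hdim : DimLT (Set.univ : Set B.left) (b + 1) := dimLT_of_dim_le
    ((IsHomeomorph.topologicalKrullDim_eq _ (Homeomorph.Set.univ B.left).isHomeomorph).trans hb).le
  have hmem' := euler_pullback_pow_mem K (fst B C).left (Over.w (fst B C)) hdim hM.choose
    (Euler.isCoh_of_isInvertible hG.choose)
  let c : ℚ := (Curv2.euler K (B ⊗ C).left ((Scheme.Modules.pullback f.left).obj L) : ℚ)
  have hc : c = 0 := by
    refine eq_zero_of_mem_polyLT (show b < 2 * b by omega) hmem' fun n => ?_
    let h : B ⊗ C ⟶ B ⊗ C := ((𝟙 B : B ⟶ B) ^ (n + 1)) ▷ C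
    have hpb : IsPullback (fst B C).left h.left ((𝟙 B : B ⟶ B) ^ (n + 1)).left (fst B C).left :=
      (isPullback_fst_whiskerRight ((𝟙 B : B ⟶ B) ^ (n + 1)) C).map (Over.forget _)
    haveI := isFinite_pow B (n := n + 1) (by omega)
    haveI := flat_pow B (n := n + 1) (by omega)
    haveI : IsFinite h.left := MorphismProperty.of_isPullback hpb inferInstance
    haveI : Flat h.left := MorphismProperty.of_isPullback hpb inferInstance
    have hrank : ∀ y, h.left.finrank y = (n + 1) ^ (2 * b) := fun y =>
      (Scheme.Hom.finrank_of_isPullback _ _ _ _ hpb y).trans (AbTors.finrank_pow B hb (by omega) _)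
    have he := euler_pullback h ((n + 1) ^ (2 * b)) hrank _
      (Euler.isCoh_of_isInvertible ((hasCls_clsMod hL).pullback f.left).choose)
    have hcls : HasCls ((Scheme.Modules.pullback h.left).obj ((Scheme.Modules.pullback f.left).obj L))
        (pull (fst B C).left (xB ^ (n + 1)) * pull (snd B C).left xC) := by
      have e : pull h.left (pull f.left x) = pull (fst B C).left (xB ^ (n + 1)) * pull (snd B C).left xC := by
        rw [hsplit, map_mul, pull_pull_over h (fst B C) xB, pull_pull_over h (snd B C) xC, whiskerRight_fst,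
          whiskerRight_snd, ← pull_pull_over (fst B C) ((𝟙 B : B ⟶ B) ^ (n + 1)) xB, hmul]
      exact e ▸ ((hasCls_clsMod hL).pullback f.left).pullback h.left
    obtain ⟨e⟩ := (((hM.tensorPow (n + 1)).pullback (fst B C).left).tensor hG).iso hcls rfl
    show (Curv2.euler K (B ⊗ C).left _ : ℚ) = _
    rw [Euler.euler_of_iso K e, he]
    push_cast
    ring
  have hgen : f.left (genericPoint (B ⊗ C).left) = genericPoint A.left := by
    obtain ⟨z, hz⟩ := f.left.surjective (genericPoint A.left)
    have h1 : f.left (genericPoint (B ⊗ C).left) ⤳ genericPoint A.left :=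
      hz ▸ ((genericPoint_spec (B ⊗ C).left).specializes trivial).map f.left.continuous
    exact (h1.antisymm ((genericPoint_spec A.left).specializes trivial)).eq
  haveI : LocallyOfFinitePresentation f.left := inferInstance
  have hdeg := (CurveMult.generic_finite_flat f.left hgen).1
  have he := euler_pullback f _ hdeg L (Euler.isCoh_of_isInvertible hL)
  have h0 : Curv2.euler K (B ⊗ C).left ((Scheme.Modules.pullback f.left).obj L) = 0 := Int.cast_eq_zero.1 hc
  rw [h0] at he
  obtain ⟨z⟩ : Nonempty (B ⊗ C).left := inferInstance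
  have hpos := f.left.one_le_finrank_map z
  rw [hdeg] at hpos
  exact (mul_eq_zero.1 he.symm).resolve_left (by exact_mod_cast (by omega : f.left.residueDegree (genericPoint (B ⊗ C).left) ≠ 0))

end GrothLib.EulerPull
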