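import Groth.Agent.Lib.EulerPull.Abelian
import Groth.Agent.Lib.AbTors.Degree
import Groth.Agent.Lib.CubeRel26.AbScheme
import Groth.Agent.Lib.Snapper.Positive

/-!
# Riemann–Roch on abelian varieties: `χ(L^n) = n^g χ(L)`
-/

set_option linter.style.haveILetI false
set_option backward.isDefEq.respectTransparency false
set_option maxHeartbeats 800000

universe u

open CategoryTheory CategoryTheory.Limits AlgebraicGeometry TopologicalSpace
open MonoidalCategory CartesianMonoidalCategory MonObj

noncomputable section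

namespace GrothLib.EulerPull

open GrothLib.Snapper GrothLib.Cube

theorem coeff_pair (i j g : ℕ) (c : ℚ) (h : i + j ≤ g) :
    ((Polynomial.C c * (Polynomial.X ^ 2 + Polynomial.X)) ^ i *
      (Polynomial.C c * (Polynomial.X ^ 2 - Polynomial.X)) ^ j).coeff (2 * g) =
      if i + j = g then c ^ g else 0 := by
  have h1 : ((Polynomial.X : Polynomial ℚ) ^ 2 + Polynomial.X).Monic := by
    apply Polynomial.monic_X_pow_add; simp
  have h2 : ((Polynomial.X : Polynomial ℚ) ^ 2 - Polynomial.X).Monic := by
    apply Polynomial.monic_X_pow_sub; simp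
  have d1 : ((Polynomial.X : Polynomial ℚ) ^ 2 + Polynomial.X).natDegree = 2 := by compute_degree!
  have d2 : ((Polynomial.X : Polynomial ℚ) ^ 2 - Polynomial.X).natDegree = 2 := by compute_degree!
  rw [mul_pow, mul_pow, _root_.mul_mul_mul_comm, ← Polynomial.C_pow, ← Polynomial.C_pow, ← Polynomial.C_mul,
    ← pow_add, Polynomial.coeff_C_mul]
  have hm := (h1.pow i).mul (h2.pow j)
  have hdeg : ((Polynomial.X ^ 2 + Polynomial.X : Polynomial ℚ) ^ i *
      (Polynomial.X ^ 2 - Polynomial.X) ^ j).natDegree = 2 * (i + j) := by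
    rw [(h1.pow i).natDegree_mul (h2.pow j), h1.natDegree_pow, h2.natDegree_pow, d1, d2]; ring
  split_ifs with hg
  · rw [hg] at hdeg ⊢
    rw [← hdeg, hm.coeff_natDegree, _root_.mul_one]
  · rw [Polynomial.coeff_eq_zero_of_natDegree_lt (by omega), mul_zero]

theorem euler_eq_of_hasCls {k : Type u} [Field k] {Z : Scheme.{u}} [Z.Over (Spec (CommRingCat.of k))]
    {A B : Z.Modules} {x : Pic Z} (hA : HasCls A x) (hB : HasCls B x) :
    Curv2.euler k Z A = Curv2.euler k Z B :=
  Euler.euler_of_iso k (hA.iso hB rfl).some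

variable {k : Type u} [Field k] (X : Over (Spec (CommRingCat.of k))) [GrpObj X] [IsProper X.hom]
  [GeometricallyIntegral X.hom]

/-- **`χ(L^n) = n^g χ(L)`.** -/
theorem euler_tensorPow {g : ℕ} (hg : topologicalKrullDim X.left = (g : WithBot ℕ∞)) {L : X.left.Modules}
    (hL : PicF.IsInvertible L) (n : ℕ) :
    @Curv2.euler k _ X.left ⟨X.hom⟩ (CohB1.tensorPow L n) =
      (n : ℤ) ^ g * @Curv2.euler k _ X.left ⟨X.hom⟩ L := by
  letI : X.left.Over (Spec (CommRingCat.of k)) := ⟨X.hom⟩
  haveI : IsProper (X.left ↘ Spec (CommRingCat.of k)) := ‹IsProper X.hom›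
  haveI : GeometricallyConnected X.hom := Rigidity.geometricallyConnected_of_geometricallyIrreducible X.hom
  haveI : GeometricallyReduced X.hom := inferInstance
  haveI : LocallyOfFinitePresentation X.hom := inferInstance
  haveI : Flat X.hom := inferInstance
  let L' := (Scheme.Modules.pullback ((𝟙 X)⁻¹ : X ⟶ X).left).obj L
  have hx := hasCls_clsMod hL
  set x : Pic X.left := clsMod hL
  let x' : Pic X.left := pull ((𝟙 X)⁻¹ : X ⟶ X).left x
  have hx' : HasCls L' x' := hx.pullback _
  let F : Fin 2 → X.left.Modules := ![L, L']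
  have hF : ∀ i, PicF.IsInvertible (F i) := fun i => by fin_cases i <;> [exact hL; exact hx'.choose]
  have hdim : DimLT (Set.univ : Set X.left) (g + 1) :=
    dimLT_of_dim_le ((IsHomeomorph.topologicalKrullDim_eq _ (Homeomorph.Set.univ X.left).isHomeomorph).trans hg).le
  have hO : Coh.IsCoh (Coh.structureModule X.left) := by
    haveI : IsLocallyNoetherian X.left := LocallyOfFiniteType.isLocallyNoetherian X.hom
    exact Euler.isCoh_of_isInvertible Euler.isInvertible_structure
  obtain ⟨Q, hQ, hQe⟩ := exists_totalDegree_le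
    (phi_mem_polyLT k hF (g + 1) _ hO (hdim.mono (Set.subset_univ _)))
  have hval : ∀ (a b : ℕ) (G : X.left.Modules), HasCls G (x ^ a * x' ^ b) →
      MvPolynomial.eval ![(a : ℚ), (b : ℚ)] Q = (Curv2.euler k X.left G : ℚ) := by
    intro a b G hG
    have e := congrFun hQe ![a, b]
    have e' : (fun i => ((![a, b] : Fin 2 → ℕ) i : ℚ)) = ![(a : ℚ), (b : ℚ)] := by
      funext i; fin_cases i <;> rfl
    rw [show evalFun Q ![a, b] = MvPolynomial.eval (fun i => ((![a, b] : Fin 2 → ℕ) i : ℚ)) Q from rfl, e'] at e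
    rw [e]
    have h2 : HasCls (invPows 2 F ![a, b]) (1 * x ^ a * x' ^ b) :=
      ((hasCls_structureModule X.left).tensor (hx.tensorPow a)).tensor (hx'.tensorPow b)
    rw [_root_.one_mul] at h2
    exact congrArg Int.cast ((Euler.euler_of_iso k (OX.tensorUnitLeftIso _)).trans (euler_eq_of_hasCls h2 hG))
  -- the identity along multiplication by `m`
  let P : ℕ → Polynomial ℚ := fun n => MvPolynomial.aeval
    ![Polynomial.C ((n : ℚ) / 2) * (Polynomial.X ^ 2 + Polynomial.X),
      Polynomial.C ((n : ℚ) / 2) * (Polynomial.X ^ 2 - Polynomial.X)] Q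
  have hP : ∀ n : ℕ, P n = Polynomial.C (Curv2.euler k X.left (CohB1.tensorPow L n) : ℚ) * Polynomial.X ^ (2 * g) := by
    intro n
    refine Polynomial.eq_of_infinite_eval_eq _ _ (Set.infinite_of_injective_forall_mem
      (f := fun m : ℕ => ((m + 1 : ℕ) : ℚ)) (fun a b h => by simpa using h) fun m' => ?_)
    set m := m' + 1 with hmdef
    show (P n).eval (m : ℚ) = _
    let u := (m * m + m) / 2
    have h2u : 2 * u = m * m + m := Nat.two_mul_div_two_of_even (by
      rw [← Nat.mul_succ]; exact Nat.even_mul_succ_self m)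
    obtain ⟨v, hv⟩ : ∃ v, u = v + m := ⟨u - m, (Nat.sub_add_cancel (by nlinarith)).symm⟩
    -- pullback by multiplication
    have hpull : pull ((𝟙 X : X ⟶ X) ^ m).left (x ^ n) = x ^ (n * u) * x' ^ (n * v) := by
      have h := CubeRel26.pull_zpow x (m : ℤ)
      rw [zpow_natCast, zpow_one, pull_over_id, zpow_neg, zpow_one, pull_one_hom, one_zpow, _root_.mul_one,
        show ((m : ℤ) ^ 2 + m) / 2 = (u : ℤ) by
          rw [sq]; have : (2 : ℤ) * u = m * m + m := by exact_mod_cast h2u
          omega,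
        show ((m : ℤ) ^ 2 - m) / 2 = (v : ℤ) by
          rw [sq]; have : (2 : ℤ) * u = m * m + m := by exact_mod_cast h2u
          omega,
        zpow_natCast, zpow_natCast] at h
      rw [map_pow, h, mul_pow, ← pow_mul, ← pow_mul, Nat.mul_comm u, Nat.mul_comm v]
    haveI := isFinite_pow X (n := m) (by omega)
    haveI := flat_pow X (n := m) (by omega)
    have he := euler_pullback ((𝟙 X : X ⟶ X) ^ m) (m ^ (2 * g))
      (fun y => AbTors.finrank_pow X hg (by omega) y) _
      (Euler.isCoh_of_isInvertible (Ample.isInvertible_tensorPow hL n) : Coh.IsCoh (CohB1.tensorPow L n))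
    have hG : HasCls ((Scheme.Modules.pullback ((𝟙 X : X ⟶ X) ^ m).left).obj (CohB1.tensorPow L n))
        (x ^ (n * u) * x' ^ (n * v)) := hpull ▸ (hx.tensorPow n).pullback _
    have hv' := hval _ _ _ hG
    rw [he] at hv'
    have hu1 : (2 : ℚ) * u = m * m + m := by exact_mod_cast h2u
    have hv1 : (u : ℚ) = v + m := by exact_mod_cast hv
    have hev : (P n).eval (m : ℚ) = MvPolynomial.eval ![((n * u : ℕ) : ℚ), ((n * v : ℕ) : ℚ)] Q := by
      have hc : (P n).eval (m : ℚ) = MvPolynomial.eval (fun i => Polynomial.eval (m : ℚ)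
          ((![Polynomial.C ((n : ℚ) / 2) * (Polynomial.X ^ 2 + Polynomial.X),
            Polynomial.C ((n : ℚ) / 2) * (Polynomial.X ^ 2 - Polynomial.X)] : Fin 2 → Polynomial ℚ) i)) Q := by
        show (Polynomial.evalRingHom (m : ℚ)) (MvPolynomial.eval₂ (algebraMap ℚ (Polynomial ℚ)) _ Q) = _
        rw [MvPolynomial.eval₂_comp_left, show (Polynomial.evalRingHom (m : ℚ)).comp (algebraMap ℚ (Polynomial ℚ)) =
          RingHom.id ℚ from RingHom.ext fun q => by simp]
        rfl
      rw [hc]
      congr 2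
      funext i
      fin_cases i <;> simp only [Fin.zero_eta, Fin.mk_one, Matrix.cons_val_zero, Matrix.cons_val_one,
        Polynomial.eval_mul, Polynomial.eval_add, Polynomial.eval_sub, Polynomial.eval_pow, Polynomial.eval_X,
        Polynomial.eval_C] <;> push_cast
      · linear_combination -((n : ℚ) / 2) * hu1
      · linear_combination -((n : ℚ) / 2) * hu1 + (n : ℚ) * hv1
    rw [hev, hv', Polynomial.eval_mul, Polynomial.eval_C, Polynomial.eval_pow, Polynomial.eval_X]
    push_cast
    ring
  -- compare top coefficients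
  let Ssum : ℚ := ∑ s ∈ Q.support, if s 0 + s 1 = g then Q.coeff s else 0
  have hcoef : ∀ n : ℕ, (Curv2.euler k X.left (CohB1.tensorPow L n) : ℚ) = ((n : ℚ) / 2) ^ g * Ssum := by
    intro n
    have h := congrArg (fun p => Polynomial.coeff p (2 * g)) (hP n)
    simp only [Polynomial.coeff_C_mul, Polynomial.coeff_X_pow, if_pos, _root_.mul_one] at h
    rw [← h]
    simp only [P, Ssum, MvPolynomial.aeval_def]
    rw [MvPolynomial.eval₂_eq', Polynomial.finsetSum_coeff, Finset.mul_sum]
    refine Finset.sum_congr rfl fun s hs => ?_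
    have hdeg : s 0 + s 1 ≤ g := by
      have := (MvPolynomial.le_totalDegree hs).trans hQ
      rwa [sum_eq_fintype_sum, Fin.sum_univ_two] at this
    rw [Fin.prod_univ_two, show (algebraMap ℚ (Polynomial ℚ)) (Q.coeff s) = Polynomial.C (Q.coeff s) from rfl,
      Polynomial.coeff_C_mul]
    simp only [Matrix.cons_val_zero, Matrix.cons_val_one]
    rw [coeff_pair _ _ _ _ hdeg]
    split_ifs <;> ring
  have h1 := hcoef 1
  have hn := hcoef n
  rw [euler_eq_of_hasCls (hx.tensorPow 1) (by rw [pow_one]; exact hx)] at h1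
  have : (Curv2.euler k X.left (CohB1.tensorPow L n) : ℚ) = (n : ℚ) ^ g * (Curv2.euler k X.left L : ℚ) := by
    rw [hn, h1, ← _root_.mul_assoc, ← mul_pow]
    push_cast
    ring_nf
  exact_mod_cast this

end GrothLib.EulerPull
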