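import Groth.Agent.Lib.Snapper.PushTop
import Groth.Agent.Lib.Snapper.Positive

/-!
# Twisting by pullbacks grows at most like the dimension of the base
-/

set_option linter.style.haveILetI false
set_option backward.isDefEq.respectTransparency false

universe u

open CategoryTheory CategoryTheory.Limits AlgebraicGeometry TopologicalSpace

noncomputable section

namespace GrothLib.EulerPull

open GrothLib.Snapper
open GrothLib.Euler (tF)

variable (k : Type u) [Field k] {Z X : Scheme.{u}} [Z.Over (Spec (CommRingCat.of k))]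
  [X.Over (Spec (CommRingCat.of k))] [IsProper (X ↘ Spec (CommRingCat.of k))]
  [IsProper (Z ↘ Spec (CommRingCat.of k))] (g : Z ⟶ X)
  (hg : g ≫ X ↘ Spec (CommRingCat.of k) = Z ↘ Spec (CommRingCat.of k))

include hg in
/-- `χ(Z, g^* M^n ⊗ G)` has degree at most `dim X` in `n`. -/
theorem euler_pullback_pow_mem {b : ℕ} (hb : DimLT (Set.univ : Set X) (b + 1)) {M : X.Modules}
    (hM : PicF.IsInvertible M) {G : Z.Modules} (hG : Coh.IsCoh G) :
    (fun n : Fin 1 → ℕ => (Curv2.euler k Z (CohB1.tensorMod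
      ((Scheme.Modules.pullback g).obj (CohB1.tensorPow M (n 0))) G) : ℚ)) ∈ polyLT 1 (b + 1) := by
  haveI := Euler.isNoetherian_of_proper (X := X) k
  haveI := Euler.isNoetherian_of_proper (X := Z) k
  haveI : IsProper (g ≫ X ↘ Spec (CommRingCat.of k)) := by rw [hg]; infer_instance
  haveI : IsProper g := IsProper.of_comp g (X ↘ Spec (CommRingCat.of k))
  haveI : (QCoh.toAbFun X).Faithful := inferInstanceAs (SheafOfModules.toSheaf _).Faithful
  haveI : EnoughInjectives Z.Modules := SheafCoh.enoughInjectives_sheafOfModules Z.ringCatSheaf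
  let R := fun i => (Coh.Rpush g i).obj G
  obtain ⟨M₀, hM₀⟩ := Groth.Agent.S0031.result g
  have hRz : ∀ i, M₀ ≤ i → IsZero (R i) := fun i hi => by
    obtain ⟨e⟩ := Groth.Agent.S11319.result g G i
    have h : IsZero ((QCoh.toAbFun X).obj (R i)) := (hM₀ G hG.1 i hi).of_iso e
    rw [IsZero.iff_id_eq_zero] at h ⊢
    apply (QCoh.toAbFun X).map_injective
    rw [CategoryTheory.Functor.map_id, Functor.map_zero]
    exact h
  have key : ∀ j : ℕ, (Curv2.euler k Z (CohB1.tensorMod ((Scheme.Modules.pullback g).obj (CohB1.tensorPow M j)) G) : ℚ) =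
      ∑ i ∈ Finset.range (M₀ + 1), (-1 : ℚ) ^ i *
        (Curv2.euler k X ((tF (CohB1.tensorPow M j)).obj (R i)) : ℚ) := by
    intro j
    let N := CohB1.tensorPow M j
    have hN : FlatMod.IsFinLocFree N := Euler.isFinLocFree_of_isInvertible (Ample.isInvertible_tensorPow hM j)
    let G' := CohB1.tensorMod ((Scheme.Modules.pullback g).obj N) G
    have hG' : Coh.IsCoh G' := QCoh.isCoh_of_iso
      (((OX.tensorBraiding (X := Z)).app ((Scheme.Modules.pullback g).obj N)).app G)
      (Euler.isCoh_tF hG (OX.isFinLocFree_pullback g hN))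
    have hi : ∀ i, Curv2.euler k X ((Coh.Rpush g i).obj G') = Curv2.euler k X ((tF N).obj (R i)) := fun i => by
      obtain ⟨e⟩ := Groth.Agent.S0927.result g G N hN i
      exact Euler.euler_of_iso k ((((OX.tensorBraiding (X := X)).app N).app (R i) ≪≫ e).symm)
    rw [show (Curv2.euler k Z G' : ℚ) = _ from congrArg Int.cast ((euler_eq_finsum_Rpush k hg G' hG').trans
      (finsum_eq_sum_of_support_subset _ (s := Finset.range (M₀ + 1)) (fun i hi' => ?_)))]
    · push_cast
      exact Finset.sum_congr rfl fun i _ => by rw [hi i]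
    · rw [Finset.coe_range, Set.mem_Iio]
      by_contra hle
      exact hi' (show (-1 : ℤ) ^ i * Curv2.euler k X ((Coh.Rpush g i).obj G') = 0 by
        rw [hi i, euler_eq_zero_of_isZero k ((tF N).map_isZero (hRz i (by omega))), mul_zero])
  have hfun : (fun n : Fin 1 → ℕ => (Curv2.euler k Z (CohB1.tensorMod
      ((Scheme.Modules.pullback g).obj (CohB1.tensorPow M (n 0))) G) : ℚ)) =
      ∑ i ∈ Finset.range (M₀ + 1), ((-1 : ℚ) ^ i) • phi k 1 (fun _ => M) (R i) := by
    funext n
    rw [key, Finset.sum_apply]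
    refine Finset.sum_congr rfl fun i _ => ?_
    rw [Pi.smul_apply, smul_eq_mul, phi_const_eq, Fin.sum_univ_one]
  rw [hfun]
  exact Submodule.sum_mem _ fun i _ => Submodule.smul_mem _ _
    (phi_mem_polyLT k (fun _ => hM) (b + 1) _ (Cohom.isCoh_Rpush g G hG i) (hb.mono (Set.subset_univ _)))

omit [IsProper (X ↘ Spec (CommRingCat.of k))] [IsProper (Z ↘ Spec (CommRingCat.of k))] [Z.Over (Spec (CommRingCat.of k))] [X.Over (Spec (CommRingCat.of k))] in
/-- A function of degree `< e` which is `c n^e` at positive integers vanishes there. -/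
theorem eq_zero_of_mem_polyLT {d e : ℕ} (hde : d < e) {f : (Fin 1 → ℕ) → ℚ} (hf : f ∈ polyLT 1 (d + 1)) {c : ℚ}
    (h : ∀ n : ℕ, f (fun _ => n + 1) = c * ((n + 1 : ℕ) : ℚ) ^ e) : c = 0 := by
  obtain ⟨Q, hQ, hQe⟩ := exists_totalDegree_le hf
  let P : Polynomial ℚ := MvPolynomial.aeval (fun _ : Fin 1 => Polynomial.X) Q
  have heval : ∀ x : ℚ, P.eval x = MvPolynomial.eval (fun _ : Fin 1 => x) Q := fun x => by
    show (Polynomial.evalRingHom x) (MvPolynomial.eval₂ (algebraMap ℚ (Polynomial ℚ)) _ Q) = _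
    rw [MvPolynomial.eval₂_comp_left, show (Polynomial.evalRingHom x).comp (algebraMap ℚ (Polynomial ℚ)) =
      RingHom.id ℚ from RingHom.ext fun q => by simp]
    simp only [Function.comp_def, Polynomial.coe_evalRingHom, Polynomial.eval_X]
    rfl
  have hdeg : P.natDegree ≤ d := by
    refine le_trans ?_ hQ
    simp only [P, MvPolynomial.aeval_def, MvPolynomial.eval₂_eq']
    refine Polynomial.natDegree_sum_le_of_forall_le _ _ fun s hs => ?_
    rw [Fin.prod_univ_one]
    refine (Polynomial.natDegree_C_mul_X_pow_le _ _).trans ?_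
    refine le_trans ?_ (MvPolynomial.le_totalDegree hs)
    rw [sum_eq_fintype_sum, Fin.sum_univ_one]
  have hP : P = Polynomial.C c * Polynomial.X ^ e := by
    refine Polynomial.eq_of_infinite_eval_eq _ _ (Set.infinite_of_injective_forall_mem
      (f := fun m : ℕ => ((m + 1 : ℕ) : ℚ)) (fun a b h => by simpa using h) fun m => ?_)
    show P.eval ((m + 1 : ℕ) : ℚ) = _
    rw [Polynomial.eval_mul, Polynomial.eval_C, Polynomial.eval_pow, Polynomial.eval_X, heval, ← h m, ← hQe]
    rfl
  by_contra hc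
  rw [hP, Polynomial.natDegree_C_mul_X_pow e c hc] at hdeg
  omega

end GrothLib.EulerPull
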